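import Groth.Agent.H05EGA4.DenseExt
import Groth.Agent.H05EGA4.DenseFlat
import Groth.Agent.H22Alg.FlatSurj
import Mathlib.AlgebraicGeometry.SpreadingOut
import Mathlib.Topology.NoetherianSpace

/-!
Extending morphisms from an open when they extend after a flat surjective base change.
-/

set_option autoImplicit false
set_option backward.isDefEq.respectTransparency false
set_option linter.style.haveILetI false

universe u

open CategoryTheory CategoryTheory.Limits AlgebraicGeometry TopologicalSpace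

namespace Groth.Agent.H13NeronDesc

/-- A closed subset of an open of a noetherian space avoiding the generizations of a point
does not have the point in its closure. -/
theorem exists_nhd_of_generizations {X : Type u} [TopologicalSpace X] [NoetherianSpace X] [QuasiSober X]
    {O W : Set X} (hO : IsOpen O) (hW : IsOpen W) {y : X} (h : ∀ z ∈ O, z ⤳ y → z ∈ W) :
    ∃ V : Set X, IsOpen V ∧ y ∈ V ∧ V ∩ O ⊆ W := by
  let T := O \ W
  haveI : NoetherianSpace T := Topology.IsEmbedding.subtypeVal.noetherianSpace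
  refine ⟨(closure T)ᶜ, isClosed_closure.isOpen_compl, ?_, ?_⟩
  · intro hy
    have hT : T = ⋃ Z ∈ irreducibleComponents T, Subtype.val '' Z := by
      rw [← Set.image_iUnion₂, ← Set.sUnion_eq_biUnion, sUnion_irreducibleComponents, Set.image_univ, Subtype.range_coe]
    rw [hT, (NoetherianSpace.finite_irreducibleComponents (α := T)).closure_biUnion] at hy
    obtain ⟨Z, hZ, hyZ⟩ := Set.mem_iUnion₂.1 hy
    obtain ⟨ξ, hξ⟩ := QuasiSober.sober (hZ.1.image _ continuous_subtype_val.continuousOn).closure isClosed_closure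
    have hξy : ξ ⤳ y := hξ.specializes hyZ
    obtain ⟨z, hz⟩ := hZ.1.1
    have hξz : ξ ⤳ z.1 := hξ.specializes (subset_closure ⟨z, hz, rfl⟩)
    have hξO : ξ ∈ O := hξz.mem_open hO z.2.1
    obtain ⟨w, hw, hwW⟩ := mem_closure_iff.1 hξ.mem W hW (h ξ hξO hξy) |>.imp fun w hw => And.intro hw.2 hw.1
    obtain ⟨w', -, rfl⟩ := hw
    exact w'.2.2 hwW
  · rintro z ⟨hz, hzO⟩
    by_contra hzW
    exact hz (subset_closure ⟨hzO, hzW⟩)

variable {S S' : Scheme.{u}} [IsLocallyNoetherian S] {g : S' ⟶ S} {U : S.Opens}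

theorem exists_local_extension (hU : CInt.IsSchematicallyDense U) {Y N Y' : Scheme.{u}}
    (πY : Y ⟶ S) [Flat πY] [LocallyOfFiniteType πY] (πN : N ⟶ S) [IsSeparated πN] [LocallyOfFiniteType πN]
    (p : Y' ⟶ Y) [Flat p] (φ : Y' ⟶ N) (hφ : φ ≫ πN = p ≫ πY)
    (h : (πY ⁻¹ᵁ U).toScheme ⟶ N) (hh : h ≫ πN = (πY ⁻¹ᵁ U).ι ≫ πY)
    (hφh : (p ⁻¹ᵁ (πY ⁻¹ᵁ U)).ι ≫ φ = (p ∣_ (πY ⁻¹ᵁ U)) ≫ h) (y' : Y') :
    ∃ (V : Y.Opens) (f : V.toScheme ⟶ N), p y' ∈ V ∧ f ≫ πN = V.ι ≫ πY ∧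
      Y.homOfLE (inf_le_left : V ⊓ πY ⁻¹ᵁ U ≤ V) ≫ f = Y.homOfLE (inf_le_right : V ⊓ πY ⁻¹ᵁ U ≤ _) ≫ h := by
  haveI : IsLocallyNoetherian Y := LocallyOfFiniteType.isLocallyNoetherian πY
  let y := p y'
  let O := πY ⁻¹ᵁ U
  let ε : Spec (Y.presheaf.stalk y) ⟶ Y := Y.fromSpecStalk y
  let q : Spec (Y'.presheaf.stalk y') ⟶ Spec (Y.presheaf.stalk y) := Spec.map (p.stalkMap y')
  have hq : q ≫ ε = Y'.fromSpecStalk y' ≫ p := Scheme.SpecMap_stalkMap_fromSpecStalk p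
  haveI : Flat ε := H22Alg.flat_fromSpecStalk Y y
  haveI : Flat q := by
    rw [HasRingHomProperty.Spec_iff (P := @Flat)]
    exact Flat.stalkMap p y'
  haveI : Surjective q := ⟨by
    haveI hflat := Flat.stalkMap p y'
    algebraize [(p.stalkMap y').hom]
    haveI : IsLocalHom (algebraMap (Y.presheaf.stalk y) (Y'.presheaf.stalk y')) :=
      inferInstanceAs (IsLocalHom (p.stalkMap y').hom)
    haveI : Module.FaithfullyFlat (Y.presheaf.stalk y) (Y'.presheaf.stalk y') :=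
      Module.FaithfullyFlat.of_flat_of_isLocalHom
    exact PrimeSpectrum.comap_surjective_of_faithfullyFlat (A := Y.presheaf.stalk y) (B := Y'.presheaf.stalk y')⟩
  let gU : (ε ⁻¹ᵁ O).toScheme ⟶ N := (ε ∣_ O) ≫ h
  have hgU : gU ≫ πN = (ε ⁻¹ᵁ O).ι ≫ ε ≫ πY := by
    simp only [gU, Category.assoc, hh]
    rw [morphismRestrict_ι_assoc]
  have hdense : CInt.IsSchematicallyDense ((pullback.fst q q) ⁻¹ᵁ (q ⁻¹ᵁ (ε ⁻¹ᵁ O))) :=
    H05EGA4.DenseFlat.preimage_of_flat (pullback.fst q q ≫ q ≫ ε ≫ πY) U hU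
  have hg' : (q ⁻¹ᵁ (ε ⁻¹ᵁ O)).ι ≫ Y'.fromSpecStalk y' ≫ φ = (q ∣_ (ε ⁻¹ᵁ O)) ≫ gU := by
    have hsub : Set.range ((q ⁻¹ᵁ (ε ⁻¹ᵁ O)).ι ≫ Y'.fromSpecStalk y') ⊆ Set.range (p ⁻¹ᵁ (πY ⁻¹ᵁ U)).ι := by
      rintro _ ⟨t, rfl⟩
      rw [Scheme.Opens.range_ι]
      show p (((q ⁻¹ᵁ (ε ⁻¹ᵁ O)).ι ≫ Y'.fromSpecStalk y') t) ∈ O
      rw [← Scheme.Hom.comp_apply, Category.assoc, ← hq]
      exact t.2
    rw [← Category.assoc, ← IsOpenImmersion.lift_fac _ _ hsub, Category.assoc, hφh]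
    simp only [gU, ← Category.assoc]
    congr 1
    rw [← cancel_mono (πY ⁻¹ᵁ U).ι]
    simp only [O, Category.assoc, morphismRestrict_ι]
    rw [IsOpenImmersion.lift_fac_assoc, Category.assoc, ← hq]
    simp
  obtain ⟨ψ, hψ₁, hψ₂⟩ := H05EGA4.DenseExt.extends_of_faithfullyFlat (ε ≫ πY) πN q (ε ⁻¹ᵁ O) hdense gU hgU
    (Y'.fromSpecStalk y' ≫ φ) (by rw [Category.assoc, hφ, ← reassoc_of% hq]) hg'
  obtain ⟨V₀, hyV₀, f₀, hf₀, hf₀S⟩ := spread_out_of_isGermInjective' πY πN ψ hψ₂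
  obtain ⟨_, ⟨(V₁ : Y.Opens), hV₁, rfl⟩, hyV₁, hV₁₀⟩ := Y.isBasis_affineOpens.exists_subset_of_mem_open hyV₀ V₀.2
  haveI : IsAffine V₁.toScheme := hV₁
  haveI : IsNoetherianRing Γ(Y, V₁) := IsLocallyNoetherian.component_noetherian ⟨V₁, hV₁⟩
  haveI : NoetherianSpace V₁.toScheme := noetherianSpace_of_isAffineOpen V₁ hV₁
  haveI : IsLocallyNoetherian V₁.toScheme := isLocallyNoetherian_of_isOpenImmersion V₁.ι
  let f₁ : V₁.toScheme ⟶ N := Y.homOfLE hV₁₀ ≫ f₀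
  let W₁ : V₁.toScheme.Opens := V₁.ι ⁻¹ᵁ O
  let a : W₁.toScheme ⟶ N := W₁.ι ≫ f₁
  let b : W₁.toScheme ⟶ N := IsOpenImmersion.lift O.ι (W₁.ι ≫ V₁.ι) (by
    rintro _ ⟨t, rfl⟩; rw [Scheme.Opens.range_ι]; exact t.2) ≫ h
  haveI : IsLocallyNoetherian W₁.toScheme := isLocallyNoetherian_of_isOpenImmersion W₁.ι
  let good : Set V₁.toScheme := W₁.ι '' {w | ∃ M : W₁.toScheme.Opens, w ∈ M ∧ M.ι ≫ a = M.ι ≫ b}
  have hgood : IsOpen good := W₁.ι.isOpenEmbedding.isOpenMap _ (isOpen_iff_forall_mem_open.2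
    fun w ⟨M, hw, hM⟩ => ⟨M, fun z hz => ⟨M, hz, hM⟩, M.2, hw⟩)
  obtain ⟨V₂, hV₂, hyV₂, hsub⟩ := exists_nhd_of_generizations (y := (⟨y, hyV₁⟩ : V₁.toScheme)) W₁.2 hgood (by
    intro z hz hzy
    refine ⟨⟨z, hz⟩, ?_, rfl⟩
    let w : W₁.toScheme := ⟨z, hz⟩
    obtain ⟨M, hw, hM⟩ := spread_out_unique_of_isGermInjective' (x := w) a b (by
      have hzy' : z.1 ⤳ y := hzy.map V₁.ι.continuous
      let c : Spec (W₁.toScheme.presheaf.stalk w) ⟶ Spec (Y.presheaf.stalk y) :=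
        Spec.map (Y.presheaf.stalkSpecializes hzy' ≫ (W₁.ι ≫ V₁.ι).stalkMap w)
      have hc : c ≫ ε = W₁.toScheme.fromSpecStalk w ≫ W₁.ι ≫ V₁.ι := by
        simp only [c, ε, Spec.map_comp, Category.assoc]
        rw [Scheme.SpecMap_stalkSpecializes_fromSpecStalk]
        exact Scheme.SpecMap_stalkMap_fromSpecStalk (W₁.ι ≫ V₁.ι)
      have hcr : Set.range c ⊆ Set.range (ε ⁻¹ᵁ O).ι := by
        rintro _ ⟨t, rfl⟩
        rw [Scheme.Opens.range_ι]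
        show ε (c t) ∈ O
        rw [← Scheme.Hom.comp_apply, hc]
        exact ((W₁.toScheme.fromSpecStalk w) t).2
      have hcV : W₁.toScheme.fromSpecStalk w ≫ W₁.ι ≫ Y.homOfLE hV₁₀ = c ≫ V₀.fromSpecStalkOfMem y hyV₀ := by
        rw [← cancel_mono V₀.ι, Category.assoc, Category.assoc, Scheme.homOfLE_ι,
          Category.assoc, Scheme.Opens.fromSpecStalkOfMem_ι]
        exact hc.symm
      simp only [a, b, f₁]
      rw [← Category.assoc, ← Category.assoc, Category.assoc (W₁.toScheme.fromSpecStalk w), hcV, Category.assoc, ← hf₀]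
      conv_lhs => rw [← IsOpenImmersion.lift_fac _ c hcr, Category.assoc, hψ₁]
      simp only [gU, ← Category.assoc]
      congr 1
      rw [← cancel_mono O.ι]
      simp only [Category.assoc, morphismRestrict_ι, IsOpenImmersion.lift_fac, IsOpenImmersion.lift_fac_assoc]
      exact hc)
    exact ⟨M, hw, hM⟩)
  let V : Y.Opens := V₁.ι ''ᵁ ⟨V₂, hV₂⟩
  have hV₁' : V ≤ V₁ := fun z ⟨t, _, ht⟩ => ht ▸ t.2
  refine ⟨V, Y.homOfLE hV₁' ≫ f₁, ⟨⟨y, hyV₁⟩, hyV₂, rfl⟩, ?_, ?_⟩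
  · simp only [f₁, Category.assoc, hf₀S, Scheme.homOfLE_ι_assoc]
  · let k : (V ⊓ O).toScheme ⟶ W₁.toScheme := IsOpenImmersion.lift W₁.ι (Y.homOfLE (inf_le_left.trans hV₁')) (by
      rintro _ ⟨t, rfl⟩
      rw [Scheme.Opens.range_ι]
      show V₁.ι (Y.homOfLE (inf_le_left.trans hV₁') t) ∈ O
      rw [← Scheme.Hom.comp_apply, Scheme.homOfLE_ι]
      exact t.2.2)
    have hk : k ≫ W₁.ι = Y.homOfLE (inf_le_left.trans hV₁') := IsOpenImmersion.lift_fac _ _ _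
    have key : k ≫ a = k ≫ b := by
      refine Scheme.hom_ext_of_forall _ _ fun t => ?_
      obtain ⟨v, hv, hvt⟩ := t.2.1
      have hvv : v = W₁.ι (k t) := by
        apply V₁.ι.isEmbedding.injective
        refine hvt.trans ?_
        rw [← Scheme.Hom.comp_apply k, hk, ← Scheme.Hom.comp_apply, Scheme.homOfLE_ι]
        rfl
      obtain ⟨w, ⟨M, hw, hM⟩, hwv⟩ := hsub (show v ∈ V₂ ∩ (W₁ : Set V₁.toScheme) from ⟨hv, by rw [hvv]; exact (k t).2⟩)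
      rw [hvv] at hwv
      obtain rfl := W₁.ι.isEmbedding.injective hwv
      refine ⟨k ⁻¹ᵁ M, hw, ?_⟩
      rw [← Category.assoc, ← Category.assoc, ← morphismRestrict_ι, Category.assoc, Category.assoc, hM]
      rw [morphismRestrict_ι_assoc]
    have key' : Y.homOfLE (inf_le_left.trans hV₁') ≫ f₁ =
        (k ≫ IsOpenImmersion.lift O.ι (W₁.ι ≫ V₁.ι) (by rintro _ ⟨t, rfl⟩; rw [Scheme.Opens.range_ι]; exact t.2)) ≫ h := by
      rw [← hk, Category.assoc, Category.assoc]; exact key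
    rw [← Category.assoc, Scheme.homOfLE_homOfLE]
    refine key'.trans ?_
    congr 1
    rw [← cancel_mono O.ι, Category.assoc, IsOpenImmersion.lift_fac, ← Category.assoc, hk, Scheme.homOfLE_ι]
    exact (Scheme.homOfLE_ι _ _).symm

theorem ext_on (hU : CInt.IsSchematicallyDense U) {X Y N : Scheme.{u}} (πY : Y ⟶ S) [Flat πY]
    (j : X ⟶ Y) [IsOpenImmersion j] (πN : N ⟶ S) [IsSeparated πN] {a b : X ⟶ N}
    (h : a ≫ πN = b ≫ πN) (hab : (j ⁻¹ᵁ (πY ⁻¹ᵁ U)).ι ≫ a = (j ⁻¹ᵁ (πY ⁻¹ᵁ U)).ι ≫ b) : a = b :=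
  H05EGA4.DenseExt.ext_of_schDense (H05EGA4.DenseFlat.preimage_of_flat (j ≫ πY) U hU) πN h hab

/-- A morphism over an open extends if it extends after a flat surjective base change. -/
theorem exists_extension (hU : CInt.IsSchematicallyDense U) {Y N Y' : Scheme.{u}}
    (πY : Y ⟶ S) [Flat πY] [LocallyOfFiniteType πY] (πN : N ⟶ S) [IsSeparated πN] [LocallyOfFiniteType πN]
    (p : Y' ⟶ Y) [Flat p] [Surjective p] (φ : Y' ⟶ N) (hφ : φ ≫ πN = p ≫ πY)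
    (h : (πY ⁻¹ᵁ U).toScheme ⟶ N) (hh : h ≫ πN = (πY ⁻¹ᵁ U).ι ≫ πY)
    (hφh : (p ⁻¹ᵁ (πY ⁻¹ᵁ U)).ι ≫ φ = (p ∣_ (πY ⁻¹ᵁ U)) ≫ h) :
    ∃ f : Y ⟶ N, f ≫ πN = πY ∧ (πY ⁻¹ᵁ U).ι ≫ f = h := by
  choose s hs using p.surjective
  choose V f hmem hfS hfh using fun y : Y => exists_local_extension hU πY πN p φ hφ h hh hφh (s y)
  have hcov : ⨆ y, V y = ⊤ := top_unique fun y _ => Opens.mem_iSup.2 ⟨y, (congrArg (· ∈ V y) (hs y)).mp (hmem y)⟩
  let 𝒰 := Scheme.openCoverOfIsOpenCover Y V hcov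
  have hglue : ∀ i j, pullback.fst (𝒰.f i) (𝒰.f j) ≫ f i = pullback.snd (𝒰.f i) (𝒰.f j) ≫ f j := fun i j => by
    change pullback.fst (V i).ι (V j).ι ≫ f i = pullback.snd (V i).ι (V j).ι ≫ f j
    refine ext_on hU πY (pullback.fst (V i).ι (V j).ι ≫ (V i).ι) πN ?_ ?_
    · rw [Category.assoc, hfS, Category.assoc, hfS, pullback.condition_assoc]
    · set D := (pullback.fst (V i).ι (V j).ι ≫ (V i).ι) ⁻¹ᵁ (πY ⁻¹ᵁ U)
      have hD : ∀ (l : Y) (pr : pullback (V i).ι (V j).ι ⟶ (V l).toScheme),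
          pr ≫ (V l).ι = pullback.fst _ _ ≫ (V i).ι →
          D.ι ≫ pr ≫ f l = IsOpenImmersion.lift (πY ⁻¹ᵁ U).ι (D.ι ≫ pullback.fst _ _ ≫ (V i).ι) (by
            rintro _ ⟨t, rfl⟩; rw [Scheme.Opens.range_ι]; exact t.2) ≫ h := by
        intro l pr hpr
        let m : D.toScheme ⟶ (V l ⊓ πY ⁻¹ᵁ U).toScheme := IsOpenImmersion.lift (V l ⊓ πY ⁻¹ᵁ U).ι
          (D.ι ≫ pullback.fst _ _ ≫ (V i).ι) (by
            rintro _ ⟨t, rfl⟩
            rw [Scheme.Opens.range_ι]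
            refine ⟨?_, t.2⟩
            rw [← hpr, ← Category.assoc, Scheme.Hom.comp_apply]
            exact ((D.ι ≫ pr) t).2)
        have e₁ : m ≫ Y.homOfLE inf_le_left = D.ι ≫ pr := by
          rw [← cancel_mono (V l).ι, Category.assoc, Scheme.homOfLE_ι, IsOpenImmersion.lift_fac, Category.assoc, hpr]
        rw [← Category.assoc, ← e₁, Category.assoc, hfh, ← Category.assoc]
        congr 1
        rw [← cancel_mono (πY ⁻¹ᵁ U).ι, Category.assoc, Scheme.homOfLE_ι, IsOpenImmersion.lift_fac, IsOpenImmersion.lift_fac]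
      rw [hD i _ rfl, hD j _ pullback.condition.symm]
  refine ⟨𝒰.glueMorphisms f hglue, ?_, ?_⟩
  · refine 𝒰.hom_ext _ _ fun i => ?_
    rw [Scheme.Cover.ι_glueMorphisms_assoc]
    exact hfS i
  · refine Scheme.hom_ext_of_forall _ _ fun t => ⟨(πY ⁻¹ᵁ U).ι ⁻¹ᵁ V t.1, (show t.1 ∈ V t.1 from by have := hmem t.1; rwa [hs t.1] at this), ?_⟩
    let O := πY ⁻¹ᵁ U
    let M := O.ι ⁻¹ᵁ V t.1
    let m : M.toScheme ⟶ (V t.1 ⊓ O).toScheme := IsOpenImmersion.lift (V t.1 ⊓ O).ι (M.ι ≫ O.ι) (by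
      rintro _ ⟨x, rfl⟩; rw [Scheme.Opens.range_ι]; exact ⟨x.2, x.1.2⟩)
    have e₁ : m ≫ Y.homOfLE inf_le_right = M.ι := by
      rw [← cancel_mono O.ι, Category.assoc, Scheme.homOfLE_ι, IsOpenImmersion.lift_fac]
    have e₂ : M.ι ≫ O.ι = (m ≫ Y.homOfLE inf_le_left) ≫ 𝒰.f t.1 := by
      show M.ι ≫ O.ι = (m ≫ Y.homOfLE inf_le_left) ≫ (V t.1).ι
      rw [Category.assoc, Scheme.homOfLE_ι, IsOpenImmersion.lift_fac]
    show M.ι ≫ O.ι ≫ _ = M.ι ≫ h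
    rw [← Category.assoc, e₂, Category.assoc, Scheme.Cover.ι_glueMorphisms, Category.assoc, hfh, ← Category.assoc, e₁]

end Groth.Agent.H13NeronDesc
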